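import Groth.Agent.FFComplLib.Kappa
import Groth.Agent.FormalLib.ModPow
import Groth.Agent.FormalLib.ProperSupport
import Groth.Agent.FExistLib.BcSec
import Groth.Agent.FProperLib.Fil
import Groth.Agent.FRelLib.Transfer
import Groth.Agent.RpushLib.Finite
import Groth.Agent.S13334

/-!
# Levels of a completion as modules on the scheme
-/

set_option autoImplicit false
set_option linter.style.haveILetI false
set_option linter.unusedSectionVars false
set_option linter.unusedVariables false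
set_option backward.isDefEq.respectTransparency false
set_option backward.isDefEq.respectTransparency.types false
set_option maxHeartbeats 1000000

universe u

open CategoryTheory CategoryTheory.Limits Opposite TopologicalSpace AlgebraicGeometry

noncomputable section

namespace Groth.Agent.FFCompl

open Groth.Agent.FCompl Groth.Agent.FProper Groth.Agent.ProjCoh

section Gen

variable {X : Scheme.{u}} [IsLocallyNoetherian X] (𝓚 : X.IdealSheafData) (hX : (FSch.completionAlong X 𝓚).IsFormal)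
  (F : X.Modules)

/-- The completion of a module. -/
abbrev hatF : FSch.ModF (FSch.completionAlong X 𝓚) hX := (ComplTors.kap X 𝓚 hX).pull.obj F

/-- A level of the completion, on the scheme. -/
abbrev lvX (k : ℕ) : X.Modules := (pK X 𝓚 hX).obj (lvl (hatF 𝓚 hX F) k)

/-- The map to a level. -/
def qlv (k : ℕ) : F ⟶ lvX 𝓚 hX F k := uK 𝓚 hX F ≫ (pK X 𝓚 hX).map (prj (hatF 𝓚 hX F) k)

variable {F}

theorem isCohF_hatF (hF : Coh.IsCoh F) : FSch.IsCohF (FSch.completionAlong X 𝓚) hX (hatF 𝓚 hX F) := by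
  have hL := S3854.result X 𝓚
  obtain ⟨e, -⟩ := exists_complMod_iso X 𝓚 hX F hF
  have h1 : FSch.IsCohF (FSch.completionAlong X 𝓚) hX ((FSch.complMod 𝓚 F).realMod hX) :=
    S13334.result (FSch.completionAlong X 𝓚) hL (FSch.complMod 𝓚 F)
      fun k => PullbackMod.isCoh_pullback (FSch.completionToX X 𝓚 k) F hF
  exact (SheafOfModules.isFinitePresentation (ModSite.ringSh ((FSch.completionAlong X 𝓚).Osh hX))).prop_of_iso e.symm h1

/-- Sections of a level over an affine open. -/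
theorem qlv_spec (hF : Coh.IsCoh F) {V : X.Opens} (hV : IsAffineOpen V) (k : ℕ) :
    Function.Surjective ((qlv 𝓚 hX F k).app V) ∧ ∀ m : Γ(F, V), (qlv 𝓚 hX F k).app V m = 0 ↔
      m ∈ 𝓚.ideal ⟨V, hV⟩ ^ (k + 1) • (⊤ : Submodule Γ(X, V) Γ(F, V)) := by
  have hL := S3854.result X 𝓚
  have hM := isCohF_hatF 𝓚 hX hF
  haveI := complCmp_isIso X 𝓚 hX F hF
  have hV' : IsAffineOpen (FExist.upO 𝓚 V) := hV.preimage _
  have hcoh : (FSch.complMod 𝓚 F).IsCoh := fun n => PullbackMod.isCoh_pullback (FSch.completionToX X 𝓚 n) F hF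
  let e : (hatF 𝓚 hX F).val.obj (op (FExist.upO 𝓚 V)) ≃ₗ[OR (FSch.completionAlong X 𝓚) hX (FExist.upO 𝓚 V)]
      OM hX (FSch.complMod 𝓚 F) (FExist.upO 𝓚 V) :=
    LinearEquiv.ofBijective ((complCmp X 𝓚 hX F).val.app (op (FExist.upO 𝓚 V))).hom
      ⟨FPLocal.app_injective_of_mono (complCmp X 𝓚 hX F) _, fun y =>
        ⟨((inv (complCmp X 𝓚 hX F)).val.app (op (FExist.upO 𝓚 V))).hom y,
          congrArg (fun g : (FSch.complMod 𝓚 F).realMod hX ⟶ (FSch.complMod 𝓚 F).realMod hX =>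
            (g.val.app (op (FExist.upO 𝓚 V))).hom y) (IsIso.inv_hom_id (complCmp X 𝓚 hX F))⟩⟩
  let j : Γ(F, V) → (hatF 𝓚 hX F).val.obj (op (FExist.upO 𝓚 V)) := fun m => ((uK 𝓚 hX F).app V m :)
  have hj : ∀ m, e (j m) = FExist.hat 𝓚 hX F V m := fun m =>
    (congr(($((ComplTors.kap X 𝓚 hX).adj.homEquiv_unit F _ (complCmp X 𝓚 hX F))).val.app (op V) m)).symm
  have hker : ∀ z : (hatF 𝓚 hX F).val.obj (op (FExist.upO 𝓚 V)),
      ((prj (hatF 𝓚 hX F) k).val.app (op (FExist.upO 𝓚 V))).hom z = 0 ↔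
        pm hX (FSch.complMod 𝓚 F) (FExist.upO 𝓚 V) k (e z) = 0 := by
    intro z
    rw [((mod_main (h := hX) (FSch.complMod 𝓚 F) hL hcoh hV').2 k).2 (e z)]
    refine (prj'_eq_zero_iff hL hM hV' (k + 1) z).trans ?_
    conv_rhs => rw [← LinearEquiv.range e, ← Submodule.map_top, ← Submodule.map_smul'']
    exact ⟨fun h => Submodule.mem_map_of_mem h, fun h => by
      obtain ⟨z', hz', he⟩ := Submodule.mem_map.1 h
      exact e.injective he ▸ hz'⟩
  obtain ⟨hs, hk⟩ := FExist.pm_hat_surj_ker 𝓚 hX F hF.1 hV k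
  refine ⟨fun y => ?_, fun m => ((hker (j m)).trans (by rw [hj])).trans (hk m)⟩
  obtain ⟨z, hz⟩ := prj_surjective hL hM hV' k (show (lvl (hatF 𝓚 hX F) k).val.obj (op (FExist.upO 𝓚 V)) from y)
  obtain ⟨m, hm⟩ := hs (pm hX (FSch.complMod 𝓚 F) (FExist.upO 𝓚 V) k (e z))
  refine ⟨m, Eq.trans ?_ hz⟩
  show ((prj (hatF 𝓚 hX F) k).val.app (op (FExist.upO 𝓚 V))).hom (j m) = _
  refine sub_eq_zero.1 ?_
  rw [← map_sub, hker, map_sub, map_sub, hj, hm, sub_self]

end Gen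

section Quot

variable {A : Type u} [CommRing A] [IsNoetherianRing A] {X : Scheme.{u}} [X.Over (Spec (CommRingCat.of A))]

/-- A quotient with the sections of `M / I^n M` is `M / I^n M`. -/
theorem exists_modPow_iso (I : Ideal A) (n : ℕ) {M Q : X.Modules} (hM : Coh.IsQCoh M) (q : M ⟶ Q)
    (hq : ∀ V : X.Opens, IsAffineOpen V → Function.Surjective (secMap (FormalLib.cst A X) q V) ∧
      LinearMap.ker (secMap (FormalLib.cst A X) q V) = I ^ n • ⊤) :
    ∃ r : Formal.modPow I n M ≅ Q, Formal.modPowπ I n M ≫ r.hom = q := by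
  have h0 : Formal.smulFamily (I ^ n) M ≫ q = 0 := by
    refine Sigma.hom_ext _ _ fun ⟨a, ha⟩ => ?_
    rw [comp_zero, ← Category.assoc, Formal.smulFamily, Sigma.ι_desc]
    refine FormalSys.hom_ext_affine fun V hV s => ?_
    show secMap (FormalLib.cst A X) q V (a • toSec (FormalLib.cst A X) s) = 0
    exact LinearMap.mem_ker.1 ((hq V hV).2.symm ▸ Submodule.smul_mem_smul ha trivial :
      a • toSec (FormalLib.cst A X) s ∈ LinearMap.ker (secMap (FormalLib.cst A X) q V))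
  let r : Formal.modPow I n M ⟶ Q := cokernel.desc _ q h0
  have hr : Formal.modPowπ I n M ≫ r = q := cokernel.π_desc _ _ _
  haveI : IsIso r := FormalLib.isIso_of_affine r fun V hV => by
    obtain ⟨hs, hk⟩ := FormalLib.secMap_modPowπ I n M hM hV
    obtain ⟨hs', hk'⟩ := hq V hV
    have he : ∀ s, r.app V ((Formal.modPowπ I n M).app V s) = q.app V s := fun s => congr(($hr).app V s)
    refine ⟨(injective_iff_map_eq_zero (r.app V).hom).2 fun y hy => ?_, fun y => ?_⟩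
    · obtain ⟨s, rfl⟩ := hs y
      have h1 : toSec (FormalLib.cst A X) s ∈ LinearMap.ker (secMap (FormalLib.cst A X) q V) :=
        LinearMap.mem_ker.2 ((he s).symm.trans hy)
      have h2 : toSec (FormalLib.cst A X) s ∈ LinearMap.ker (secMap (FormalLib.cst A X) (Formal.modPowπ I n M) V) := by
        rw [hk, ← hk']
        exact h1
      show secMap (FormalLib.cst A X) (Formal.modPowπ I n M) V (toSec (FormalLib.cst A X) s) = 0
      exact LinearMap.mem_ker.1 h2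
    · obtain ⟨s, rfl⟩ := hs' y
      exact ⟨_, he s⟩
  exact ⟨asIso r, hr⟩

end Quot

lemma res2 {X : Scheme.{u}} {U V W : (X.Opens)ᵒᵖ} (i : U ⟶ V) (j : V ⟶ W) (k : U ⟶ W) (a : X.presheaf.obj U) :
    X.presheaf.map j (X.presheaf.map i a) = X.presheaf.map k a := by
  rw [← ConcreteCategory.comp_apply, ← Functor.map_comp, Subsingleton.elim (i ≫ j) k]

lemma appIso_preTop {X S : Scheme.{u}} (f : X ⟶ S) (W : S.Opens) (V : (f ⁻¹ᵁ W).toScheme.Opens) (a : Γ(S, W))
    (hV : (f ⁻¹ᵁ W).ι ''ᵁ V ≤ f ⁻¹ᵁ W) :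
    ((f ⁻¹ᵁ W).ι.appIso V).inv ((f ⁻¹ᵁ W).toScheme.presheaf.map (homOfLE (le_top : V ≤ ⊤)).op
      (RpushLib.preTop f W a)) = f.appLE W ((f ⁻¹ᵁ W).ι ''ᵁ V) hV a := by
  rw [Scheme.Opens.ι_appIso]
  simp [RpushLib.preTop, Scheme.Hom.appLE, Scheme.Opens.topIso]
  exact res2 _ _ _ (f.app W a)

/-- A level on the preimage of an affine open is the quotient by a power of the ideal. -/
theorem exists_level_iso {X S : Scheme.{u}} [IsLocallyNoetherian X] (f : X ⟶ S) (𝓘 : S.IdealSheafData)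
    (𝓚 : X.IdealSheafData) (h𝓚 : 𝓚 = 𝓘.comap f) (hX : (FSch.completionAlong X 𝓚).IsFormal) {F : X.Modules}
    (hF : Coh.IsCoh F) {W : S.Opens} (hW : IsAffineOpen W) [IsNoetherianRing Γ(S, W)]
    [(f ⁻¹ᵁ W).toScheme.Over (Spec (CommRingCat.of Γ(S, W)))]
    (hov : FormalLib.cst Γ(S, W) (f ⁻¹ᵁ W).toScheme = RpushLib.preTop f W) (k : ℕ) :
    ∃ r : Formal.modPow (𝓘.ideal ⟨W, hW⟩) (k + 1) (F.restrict (f ⁻¹ᵁ W).ι) ≅ (lvX 𝓚 hX F k).restrict (f ⁻¹ᵁ W).ι,
      Formal.modPowπ (𝓘.ideal ⟨W, hW⟩) (k + 1) (F.restrict (f ⁻¹ᵁ W).ι) ≫ r.hom =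
        (Scheme.Modules.restrictFunctor (f ⁻¹ᵁ W).ι).map (qlv 𝓚 hX F k) := by
  refine exists_modPow_iso _ _ (ProjCoh.isCoh_of_iso
    ((Scheme.Modules.restrictFunctorIsoPullback (f ⁻¹ᵁ W).ι).app F).symm (PullbackMod.isCoh_pullback _ F hF)).1
    _ fun V hV => ?_
  let V' : X.Opens := (f ⁻¹ᵁ W).ι ''ᵁ V
  let cu : Γ(F.restrict (f ⁻¹ᵁ W).ι, V) →+ Γ(F, V') :=
    { toFun := fun s => s, map_zero' := rfl, map_add' := fun _ _ => rfl }
  have hV' : IsAffineOpen V' := hV.image_of_isOpenImmersion _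
  have hVW : V' ≤ f ⁻¹ᵁ W := (Scheme.Hom.image_mono _ le_top).trans (Scheme.Opens.ι_image_top _).le
  obtain ⟨hs, hk⟩ := qlv_spec 𝓚 hX hF hV' k
  have hI : 𝓚.ideal ⟨V', hV'⟩ ^ (k + 1) = (𝓘.ideal ⟨W, hW⟩ ^ (k + 1)).map (f.appLE W V' hVW).hom := by
    rw [Ideal.map_pow]
    subst h𝓚
    rw [IdealStalkLib.comap_ideal 𝓘 f hW hV' hVW]
  let e : Sec (FormalLib.cst Γ(S, W) (f ⁻¹ᵁ W).toScheme) (F.restrict (f ⁻¹ᵁ W).ι) V →+ Γ(F, V') :=
    { toFun := fun s => cu s, map_zero' := rfl, map_add' := fun _ _ => rfl }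
  have hsc : ∀ (a : Γ(S, W)) (s : Sec (FormalLib.cst Γ(S, W) (f ⁻¹ᵁ W).toScheme) (F.restrict (f ⁻¹ᵁ W).ι) V),
      e (a • s) = (f.appLE W V' hVW).hom a • e s := by
    intro a s
    show ((f ⁻¹ᵁ W).ι.appIso V).inv (φV (FormalLib.cst Γ(S, W) (f ⁻¹ᵁ W).toScheme) V a) • (e s) = _
    refine congrArg (fun c => c • e s) ?_
    rw [hov]
    exact appIso_preTop f W V a hVW
  refine ⟨hs, ?_⟩
  ext s
  rw [LinearMap.mem_ker]
  refine (hk (e s)).trans ?_
  rw [hI]
  constructor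
  · intro h
    have H : ∀ y : Γ(F, V'), y ∈ (𝓘.ideal ⟨W, hW⟩ ^ (k + 1)).map (f.appLE W V' hVW).hom • (⊤ : Submodule Γ(X, V') Γ(F, V')) →
        ∃ t ∈ (𝓘.ideal ⟨W, hW⟩ ^ (k + 1) • (⊤ : Submodule Γ(S, W) (Sec (FormalLib.cst Γ(S, W) (f ⁻¹ᵁ W).toScheme)
          (F.restrict (f ⁻¹ᵁ W).ι) V))), e t = y := by
      intro y hy
      refine Submodule.smul_induction_on hy (fun b hb z _ => ?_) ?_
      · rw [Ideal.map] at hb
        induction hb using Submodule.span_induction generalizing z with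
        | mem b hb =>
          obtain ⟨a, ha, rfl⟩ := hb
          exact ⟨a • (show Sec (FormalLib.cst Γ(S, W) (f ⁻¹ᵁ W).toScheme) (F.restrict (f ⁻¹ᵁ W).ι) V from z),
            Submodule.smul_mem_smul ha trivial, hsc a _⟩
        | zero => exact ⟨0, zero_mem _, (map_zero e).trans (zero_smul _ z).symm⟩
        | add b b' _ _ h1 h2 =>
          obtain ⟨t, ht, ht'⟩ := h1 z trivial
          obtain ⟨t2, ht2, ht2'⟩ := h2 z trivial
          exact ⟨t + t2, add_mem ht ht2, by rw [map_add, ht', ht2', add_smul]⟩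
        | smul c b _ h1 =>
          obtain ⟨t, ht, ht'⟩ := h1 (c • z) trivial
          exact ⟨t, ht, by rw [ht', smul_eq_mul, mul_comm, mul_smul]⟩
      · rintro x y ⟨t, ht, rfl⟩ ⟨t2, ht2, rfl⟩
        exact ⟨t + t2, add_mem ht ht2, map_add e _ _⟩
    obtain ⟨t, ht, he⟩ := H _ h
    obtain rfl : t = s := he
    exact ht
  · exact fun h => FRel.mem_smul_top_transport (f.appLE W V' hVW).hom e hsc _ h

end Groth.Agent.FFCompl
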