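import Groth.Agent.FFComplLib.SecHH
import Groth.Agent.FFComplLib.LevelX
import Groth.Agent.FormalLib.Main
import Groth.Agent.FProperLib.Main
import Groth.Agent.FComplLib.Comparison

/-!
# The theorem on formal functions for sections of higher direct images
-/

set_option autoImplicit false
set_option linter.style.haveILetI false
set_option linter.unusedSectionVars false
set_option linter.unusedVariables false
set_option backward.isDefEq.respectTransparency false
set_option backward.isDefEq.respectTransparency.types false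
set_option maxHeartbeats 1000000

universe u

open CategoryTheory CategoryTheory.Limits Opposite TopologicalSpace AlgebraicGeometry

noncomputable section

namespace Groth.Agent.FFCompl

open Groth.Agent.FProper

section Gen

variable {A : Type u} [CommRing A] {X : Scheme.{u}} [X.Over (Spec (CommRingCat.of A))]

lemma smul_hh_eq_zero {N : X.Modules} {b : A} (h : Formal.smulMod A N b = 0) (p : ℕ) (x : Coh.HH X N p) :
    b • x = 0 := by
  have e : Coh.smulAb N (Coh.toGlobal (X ↘ Spec (CommRingCat.of A)) b) =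
      (SheafOfModules.toSheaf X.ringCatSheaf).map (Formal.smulMod A N b) := rfl
  show Sheaf.H.map (Coh.smulAb N (Coh.toGlobal (X ↘ Spec (CommRingCat.of A)) b)) p x = 0
  rw [e, h, Functor.map_zero]
  refine (CohBase.HHEquiv N p).injective ((CohBase.HEquiv_map _ p x).trans ?_)
  rw [map_zero, CohBase.hmap_apply]
  exact (congrArg (fun z => Abelian.Ext.comp _ z (add_zero p)) (Abelian.Ext.mk₀_zero _ _)).trans
    (Abelian.Ext.comp_zero _ _ _ _ _)

lemma smulMod_eq_zero_of_iso {I : Ideal A} {n : ℕ} {M Q : X.Modules} (r : Formal.modPow I n M ≅ Q) {b : A}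
    (hb : b ∈ I ^ n) : Formal.smulMod A Q b = 0 := by
  rw [← cancel_epi r.hom, comp_zero, ← FormalLib.smulMod_natural]
  have h1 : Formal.smulMod A (Formal.modPow I n M) b = 0 := by
    haveI : Epi (Formal.modPowπ I n M) := inferInstanceAs (Epi (cokernel.π _))
    rw [← cancel_epi (Formal.modPowπ I n M), comp_zero, ← FormalLib.smulMod_natural,
      show Formal.smulMod A M b = Sigma.ι (fun _ : ↥(I ^ n) => M) ⟨b, hb⟩ ≫ Formal.smulFamily (I ^ n) M by
        simp [Formal.smulFamily], Category.assoc]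
    exact (congrArg _ (cokernel.condition (Formal.smulFamily (I ^ n) M))).trans comp_zero
  rw [h1, zero_comp]

end Gen

variable {X Y : Scheme.{u}} (f : X ⟶ Y) [IsProper f] [IsLocallyNoetherian Y] [IsLocallyNoetherian X]
  [HasInjectiveResolutions X.Modules] (𝓘 : Y.IdealSheafData) (𝓚 : X.IdealSheafData) (h𝓚 : 𝓚 = 𝓘.comap f)
  (hX : (FSch.completionAlong X 𝓚).IsFormal) {F : X.Modules} (hF : Coh.IsCoh F) (p : ℕ)

omit [IsProper f] [IsLocallyNoetherian Y] [HasInjectiveResolutions X.Modules] in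
include hF in
theorem isQCoh_lvX (k : ℕ) : Coh.IsQCoh (lvX 𝓚 hX F k) := by
  have hM := isCohF_hatF 𝓚 hX hF
  haveI : Coh.IsQCoh ((FSch.levelMor (FSch.completionAlong X 𝓚) hX k).pull.obj (hatF 𝓚 hX F)) :=
    (FCompl.sysOf_isCoh (hatF 𝓚 hX F) hM k).1
  haveI := FCompl.schPushCompare_isIso (h := hX) (FSch.completionToX X 𝓚) (FSch.completionToX_comm X 𝓚) k
  exact (SheafOfModules.isQuasicoherent X.ringCatSheaf).prop_of_iso
    ((asIso (FSch.schPushCompare (FSch.completionAlong X 𝓚) hX (FSch.completionToX X 𝓚)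
      (FSch.completionToX_comm X 𝓚) k)).app ((FSch.levelMor (FSch.completionAlong X 𝓚) hX k).pull.obj (hatF 𝓚 hX F)))
    (QCohLib.isQCoh_pushforward _ (FSch.completionToX X 𝓚 k))

/-- The transition maps of the levels on the scheme. -/
abbrev tlv (F : X.Modules) {m k : ℕ} (h : m ≤ k) : lvX 𝓚 hX F k ⟶ lvX 𝓚 hX F m :=
  (pK X 𝓚 hX).map ((lvlSys (hatF 𝓚 hX F)).map (homOfLE h).op)

lemma qlv_tlv (F : X.Modules) {m k : ℕ} (h : m ≤ k) : qlv 𝓚 hX F k ≫ tlv 𝓚 hX F h = qlv 𝓚 hX F m := by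
  rw [qlv, qlv, tlv, Category.assoc, ← Functor.map_comp, prj_lvlSys_map]



include h𝓚 hF in
/-- Formal functions for sections of higher direct images over an affine open. -/
theorem exists_bounds {W : Y.Opens} (hW : IsAffineOpen W) : ∃ c : ℕ,
    (∀ (n : ℕ) (t : Γ((Coh.Rpush f p).obj F, W)),
      ((Coh.Rpush f p).map (qlv 𝓚 hX F (n + c))).app W t = 0 →
        t ∈ 𝓘.ideal ⟨W, hW⟩ ^ (n + 1) • (⊤ : Submodule Γ(Y, W) Γ((Coh.Rpush f p).obj F, W))) ∧
    (∀ (n : ℕ) (y : Γ((Coh.Rpush f p).obj (lvX 𝓚 hX F (n + c)), W)),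
      ∃ t, ((Coh.Rpush f p).map (qlv 𝓚 hX F n)).app W t =
        ((Coh.Rpush f p).map (tlv 𝓚 hX F (Nat.le_add_right n c))).app W y) ∧
    ∀ (k : ℕ) (b : Γ(Y, W)), b ∈ 𝓘.ideal ⟨W, hW⟩ ^ (k + 1) →
      ∀ y : Γ((Coh.Rpush f p).obj (lvX 𝓚 hX F k), W), b • y = 0 := by
  haveI := QCohLib.isNoetherianRing_section hW
  haveI := hF.1
  set U := f ⁻¹ᵁ W
  haveI : IsProper (f ∣_ W) := MorphismProperty.of_isPullback (isPullback_morphismRestrict f W).flip ‹_›
  letI ov : U.toScheme.Over (Spec (CommRingCat.of Γ(Y, W))) := ⟨(f ∣_ W) ≫ hW.isoSpec.hom⟩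
  haveI : IsProper (U.toScheme ↘ Spec (CommRingCat.of Γ(Y, W))) :=
    inferInstanceAs (IsProper ((f ∣_ W) ≫ hW.isoSpec.hom))
  have hov : FormalLib.cst Γ(Y, W) U.toScheme = RpushLib.preTop f W := RpushLib.toGlobal_eq f hW
  let G := Scheme.Modules.restrictFunctor U.ι
  let M := F.restrict U.ι
  have hM : Coh.IsCoh M := ProjCoh.isCoh_of_iso
    ((Scheme.Modules.restrictFunctorIsoPullback U.ι).app F).symm (PullbackMod.isCoh_pullback _ F hF)
  set I := 𝓘.ideal ⟨W, hW⟩ with hI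
  choose r hr using fun k => exists_level_iso f 𝓘 𝓚 h𝓚 hX hF hW hov k
  have hr : ∀ k, Formal.modPowπ I (k + 1) M ≫ (r k).hom = G.map (qlv 𝓚 hX F k) := hr
  have hQ : ∀ k, Coh.IsQCoh (lvX 𝓚 hX F k) := isQCoh_lvX 𝓚 hX hF
  haveI := fun k => hQ k
  have hlin : ∀ (N : X.Modules) [Coh.IsQCoh N] (a : Γ(Y, W)) (y : Γ((Coh.Rpush f p).obj N, W)),
      ΦW f hW N p (a • y) = a • ΦW f hW N p y := fun N _ a y => by
    refine (ΦW_smul f hW N p a y).trans ?_
    show _ = FormalLib.cst Γ(Y, W) U.toScheme a • ΦW f hW N p y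
    rw [hov]
    rfl
  obtain ⟨R, c₀, hR, -, -, -, hR'⟩ := FormalLib.exists_kernel_stable I hM p
  obtain ⟨c₁, hc₁⟩ := FormalLib.exists_image_stable I hM p
  refine ⟨c₀ + c₁ + 1, fun n t ht => ?_, fun n y => ?_, fun k b hb y => ?_⟩
  · have h1 : BCLib.hhMapΓ (G.map (qlv 𝓚 hX F (n + (c₀ + c₁ + 1)))) p (ΦW f hW F p t) = 0 := by
      rw [← ΦW_natural, ht, map_zero]
    have h2 : Formal.toHHmodPow I M p (n + (c₀ + c₁ + 1)) (ΦW f hW F p t) = 0 := by
      refine (BCLib.hhEquivΓ (r (n + (c₀ + c₁ + 1))) p).injective ?_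
      rw [map_zero, ← h1, ← hr]
      show BCLib.hhMapΓ (r (n + (c₀ + c₁ + 1))).hom p
        (BCLib.hhMapΓ (Formal.modPowπ I (n + (c₀ + c₁ + 1) + 1) M) p (ΦW f hW F p t)) = _
      exact (hhMapΓ_comp _ _ p _).symm
    have h3 := hR' (n + (c₀ + c₁ + 1)) (by omega) ((hR _ _).2 h2)
    let e : Γ((Coh.Rpush f p).obj F, W) ≃ₗ[Γ(Y, W)] Coh.HH U.toScheme M p :=
      LinearEquiv.ofBijective { toFun := ΦW f hW F p, map_add' := map_add _, map_smul' := hlin F }
        (ΦW_bijective f hW F p)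
    have h4 : e t ∈ I ^ (n + 1) • (⊤ : Submodule Γ(Y, W) (Coh.HH U.toScheme M p)) := by
      refine Submodule.smul_mono_left ?_ h3
      exact Ideal.pow_le_pow_right (by omega)
    rw [← LinearEquiv.range e, ← Submodule.map_top, ← Submodule.map_smul''] at h4
    obtain ⟨t', ht', he⟩ := Submodule.mem_map.1 h4
    exact e.injective he ▸ ht'
  · obtain ⟨z, hz⟩ : ∃ z, BCLib.hhMapΓ (r (n + (c₀ + c₁ + 1))).hom p z = ΦW f hW (lvX 𝓚 hX F (n + (c₀ + c₁ + 1))) p y :=
      (BCLib.hhEquivΓ (r (n + (c₀ + c₁ + 1))) p).surjective _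
    obtain ⟨x, hx⟩ := ((hc₁ n (n + (c₀ + c₁ + 1)) (by omega) (by omega)) ▸ Set.mem_range_self z :
      _ ∈ Set.range (Formal.toHHmodPow I M p n))
    obtain ⟨t, rfl⟩ := (ΦW_bijective f hW F p).2 x
    refine ⟨t, (ΦW_bijective f hW (lvX 𝓚 hX F n) p).1 ?_⟩
    rw [ΦW_natural, ΦW_natural, ← hz]
    have hc : FormalLib.cTrans I M n (n + (c₀ + c₁ + 1)) (by omega) ≫ (r n).hom =
        (r (n + (c₀ + c₁ + 1))).hom ≫ G.map (tlv 𝓚 hX F (Nat.le_add_right n (c₀ + c₁ + 1))) := by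
      haveI : Epi (Formal.modPowπ I (n + (c₀ + c₁ + 1) + 1) M) := inferInstanceAs (Epi (cokernel.π _))
      rw [← cancel_epi (Formal.modPowπ I (n + (c₀ + c₁ + 1) + 1) M), ← Category.assoc, ← Category.assoc,
        FormalLib.map_completion, hr, hr, ← G.map_comp, qlv_tlv]
    rw [← hr n, hhMapΓ_comp, ← hhMapΓ_comp (r (n + (c₀ + c₁ + 1))).hom, ← hc, hhMapΓ_comp]
    exact congrArg _ hx
  · refine (ΦW_bijective f hW (lvX 𝓚 hX F k) p).1 ?_
    rw [hlin, map_zero]
    exact smul_hh_eq_zero (smulMod_eq_zero_of_iso (r k) hb) p _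

end Groth.Agent.FFCompl
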