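import Groth.Agent.SpSeqLib.DerivedComp
import Groth.Agent.SpSeqLib.AcyclicResolution
import Groth.Agent.ComplTorsLib.Push
import Groth.Agent.SiteBase.ModCoh
import Groth.Prelude.Def_Coh
import Groth.Prelude.Def_FSch6

/-!
# Higher direct images commute with the direct images along completion morphisms
-/

set_option autoImplicit false
set_option linter.style.haveILetI false
set_option linter.unusedSectionVars false
set_option backward.isDefEq.respectTransparency false
set_option backward.isDefEq.respectTransparency.types false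
set_option maxHeartbeats 1000000

universe u

open CategoryTheory CategoryTheory.Limits Opposite TopologicalSpace AlgebraicGeometry

noncomputable section

namespace Groth.Agent.FFCompl

open Groth.Agent.ComplTors

variable {X Y : Scheme.{u}} (f : X ⟶ Y) (𝓘 : Y.IdealSheafData) (𝓚 : X.IdealSheafData) (hpc : FSch.PowCompat f 𝓚 𝓘)
  (hX : (FSch.completionAlong X 𝓚).IsFormal) (hY : (FSch.completionAlong Y 𝓘).IsFormal)

/-- The direct image along the completion morphism, to modules on the scheme. -/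
abbrev pK (X : Scheme.{u}) (𝓚 : X.IdealSheafData) (hX : (FSch.completionAlong X 𝓚).IsFormal) :
    FSch.ModF (FSch.completionAlong X 𝓚) hX ⥤ X.Modules := (kap X 𝓚 hX).push

instance pK_limits : PreservesFiniteLimits (pK X 𝓚 hX) := exact_push.1

instance pK_colimits : PreservesFiniteColimits (pK X 𝓚 hX) := exact_push.2

instance pK_additive : (pK X 𝓚 hX).Additive := Functor.additive_of_preserves_binary_products _

lemma injective_pK [IsLocallyNoetherian X] (I : FSch.ModF (FSch.completionAlong X 𝓚) hX) [Injective I] :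
    Injective ((pK X 𝓚 hX).obj I) := by
  haveI : PreservesFiniteLimits (kap X 𝓚 hX).pull := exact_pull.1
  exact Injective.injective_of_adjoint (kap X 𝓚 hX).adj I

/-- The square of completions, on direct images. -/
def sqK : pK X 𝓚 hX ⋙ Scheme.Modules.pushforward f ≅
    FSch.pushF (FSch.completionMap f 𝓚 𝓘 hpc) hX hY ⋙ pK Y 𝓘 hY :=
  FSch.schPushSq (FSch.completionMap f 𝓚 𝓘 hpc) hX hY f (FSch.completionToX X 𝓚) (FSch.completionToX_comm X 𝓚)
    (FSch.completionToX Y 𝓘) (FSch.completionToX_comm Y 𝓘) (FSch.completionMap_sq f 𝓚 𝓘 hpc)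

instance enoughInjectives_modules (X : Scheme.{u}) : EnoughInjectives X.Modules :=
  SiteBase.enoughInjectives_sheafOfModules _

variable [IsLocallyNoetherian X] [HasInjectiveResolutions X.Modules]
  [HasInjectiveResolutions (FSch.ModF (FSch.completionAlong X 𝓚) hX)]

/-- Higher direct images commute with the direct images along completion morphisms. -/
def ΦK (n : ℕ) : pK X 𝓚 hX ⋙ Coh.Rpush f n ≅
    FSch.RpushF (FSch.completionMap f 𝓚 𝓘 hpc) hX hY n ⋙ pK Y 𝓘 hY :=
  (SpSeqLib.rightDerivedPrecompAcyclicIso (pK X 𝓚 hX) (Scheme.Modules.pushforward f)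
      (fun I hI => haveI := injective_pK 𝓚 hX I; SpSeqLib.isAcyclicFor_of_injective _ _) n).symm ≪≫
    SpSeqLib.rightDerivedCongr (sqK f 𝓘 𝓚 hpc hX hY) n ≪≫
      SpSeqLib.rightDerivedPostcompIso (FSch.pushF (FSch.completionMap f 𝓚 𝓘 hpc) hX hY) (pK Y 𝓘 hY) n

/-- The unit of the completion. -/
abbrev uK (F : X.Modules) : F ⟶ (pK X 𝓚 hX).obj ((kap X 𝓚 hX).pull.obj F) := (kap X 𝓚 hX).adj.unit.app F

/-- The transpose of the comparison of the completion of a higher direct image. -/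
def θ' (n : ℕ) (F : X.Modules) : (Coh.Rpush f n).obj F ⟶
    (pK Y 𝓘 hY).obj ((FSch.RpushF (FSch.completionMap f 𝓚 𝓘 hpc) hX hY n).obj ((kap X 𝓚 hX).pull.obj F)) :=
  (Coh.Rpush f n).map (uK 𝓚 hX F) ≫ (ΦK f 𝓘 𝓚 hpc hX hY n).hom.app ((kap X 𝓚 hX).pull.obj F)

/-- The comparison of the completion of a higher direct image. -/
def θC (n : ℕ) (F : X.Modules) : (kap Y 𝓘 hY).pull.obj ((Coh.Rpush f n).obj F) ⟶
    (FSch.RpushF (FSch.completionMap f 𝓚 𝓘 hpc) hX hY n).obj ((kap X 𝓚 hX).pull.obj F) :=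
  ((kap Y 𝓘 hY).adj.homEquiv _ _).symm (θ' f 𝓘 𝓚 hpc hX hY n F)

lemma unit_θC (n : ℕ) (F : X.Modules) :
    (kap Y 𝓘 hY).adj.unit.app ((Coh.Rpush f n).obj F) ≫ (pK Y 𝓘 hY).map (θC f 𝓘 𝓚 hpc hX hY n F) =
      θ' f 𝓘 𝓚 hpc hX hY n F :=
  ((kap Y 𝓘 hY).adj.homEquiv_unit _ _ _).symm.trans (Equiv.apply_symm_apply _ _)

lemma θ'_level (n : ℕ) (F : X.Modules) {M : FSch.ModF (FSch.completionAlong X 𝓚) hX}
    (g : (kap X 𝓚 hX).pull.obj F ⟶ M) :
    θ' f 𝓘 𝓚 hpc hX hY n F ≫ (pK Y 𝓘 hY).map ((FSch.RpushF (FSch.completionMap f 𝓚 𝓘 hpc) hX hY n).map g) =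
      (Coh.Rpush f n).map (uK 𝓚 hX F ≫ (pK X 𝓚 hX).map g) ≫ (ΦK f 𝓘 𝓚 hpc hX hY n).hom.app M := by
  rw [θ', Category.assoc, Functor.map_comp, Category.assoc]
  exact congrArg (_ ≫ ·) ((ΦK f 𝓘 𝓚 hpc hX hY n).hom.naturality g).symm

end Groth.Agent.FFCompl
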