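import Groth.Agent.FFComplLib.Bounds
import Groth.Agent.FExistLib.BcAbs
import Groth.Agent.FRelLib.Sys
import Groth.Agent.FRelLib.Coh
import Groth.Agent.ComplTorsLib.Basic
import Groth.Agent.S3862

/-!
# The completion of a higher direct image
-/

set_option autoImplicit false
set_option linter.style.haveILetI false
set_option linter.unusedSectionVars false
set_option linter.unusedVariables false
set_option backward.isDefEq.respectTransparency false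
set_option backward.isDefEq.respectTransparency.types false
set_option maxHeartbeats 2000000

universe u

open CategoryTheory CategoryTheory.Limits Opposite TopologicalSpace AlgebraicGeometry

noncomputable section

namespace Groth.Agent.FFCompl

open Groth.Agent.FCompl Groth.Agent.FProper

/-- Bijectivity from approximation, from the sections of a system. -/
theorem bij_of_sys {𝔛 : FSch.Sys.{u}} (h : 𝔛.IsFormal) (𝔐 : FSch.ModSys 𝔛) (U : (𝔛.X 0).Opens) {N OX : Type u}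
    [AddCommGroup N] [AddCommGroup OX] {AX : ℕ → Type u} [∀ k, AddCommGroup (AX k)] (πX : ∀ k, OX →+ AX k)
    (hY : N →+ OM h 𝔐 U) (hX : N →+ OX) (Φ : OM h 𝔐 U →+ OX) (c : ℕ)
    (hYs : ∀ k x, ∃ t, pm h 𝔐 U k (hY t) = x) (hΦh : ∀ t, Φ (hY t) = hX t)
    (hΦ : ∀ k z, pm h 𝔐 U k z = 0 → πX k (Φ z) = 0)
    (hsmall : ∀ n t, πX (n + c) (hX t) = 0 → pm h 𝔐 U n (hY t) = 0)
    (hex : ∀ y n, ∃ s, πX n (hX s) = πX n y)
    (hleY : ∀ {n k : ℕ}, n ≤ k → ∀ {x y}, pm h 𝔐 U k x = pm h 𝔐 U k y → pm h 𝔐 U n x = pm h 𝔐 U n y)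
    (hleX : ∀ {n k : ℕ}, n ≤ k → ∀ {x y}, πX k x = πX k y → πX n x = πX n y)
    (hext : ∀ x y, (∀ n, πX n x = πX n y) → x = y) : Function.Bijective Φ :=
  FExist.bijective_of_approx (fun k => pm h 𝔐 U k) πX (fun k => tm h 𝔐 U k) hY hX Φ c (fun k x => hYs k _) hΦh hΦ
    hsmall hex hleY hleX (fun n x => tm_pm _ n x) (fun x y e => om_ext _ e) hext
    (fun b hb => (om_existsUnique _ b hb).exists)

variable {X Y : Scheme.{u}} (f : X ⟶ Y) [IsProper f] [IsLocallyNoetherian Y] [IsLocallyNoetherian X]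
  (𝓘 : Y.IdealSheafData) (𝓚 : X.IdealSheafData) (h𝓚 : 𝓚 = 𝓘.comap f) (hpc : FSch.PowCompat f 𝓚 𝓘)

include h𝓚 in
/-- The completion of a proper morphism is proper. -/
theorem isProperHom_completionMap : FSch.IsProperHom (FSch.completionMap f 𝓚 𝓘 hpc) := by
  subst h𝓚
  obtain ⟨hsq, had⟩ := S3862.result f 𝓘 hpc
  exact ⟨had, MorphismProperty.of_isPullback (hsq 0) ‹IsProper f›⟩

variable (hX : (FSch.completionAlong X 𝓚).IsFormal) (hY : (FSch.completionAlong Y 𝓘).IsFormal)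
  [HasInjectiveResolutions X.Modules] [HasInjectiveResolutions (FSch.ModF (FSch.completionAlong X 𝓚) hX)]
  (p : ℕ) {F : X.Modules} (hF : Coh.IsCoh F)

local notation "φK" => FSch.completionMap f 𝓚 𝓘 hpc

/-- The projection to a level, on the scheme. -/
def πK (k : ℕ) : (pK Y 𝓘 hY).obj ((FSch.RpushF φK hX hY p).obj (hatF 𝓚 hX F)) ⟶
    (Coh.Rpush f p).obj (lvX 𝓚 hX F k) :=
  (pK Y 𝓘 hY).map ((FSch.RpushF φK hX hY p).map (prj (hatF 𝓚 hX F) k)) ≫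
    (ΦK f 𝓘 𝓚 hpc hX hY p).inv.app (lvl (hatF 𝓚 hX F) k)

lemma θ'_πK (k : ℕ) : θ' f 𝓘 𝓚 hpc hX hY p F ≫ πK f 𝓘 𝓚 hpc hX hY p (F := F) k =
    (Coh.Rpush f p).map (qlv 𝓚 hX F k) := by
  rw [πK, ← Category.assoc, θ'_level, Category.assoc, Iso.hom_inv_id_app]
  exact Category.comp_id _

lemma πK_tlv {m k : ℕ} (h : m ≤ k) :
    πK f 𝓘 𝓚 hpc hX hY p (F := F) k ≫ (Coh.Rpush f p).map (tlv 𝓚 hX F h) = πK f 𝓘 𝓚 hpc hX hY p (F := F) m := by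
  rw [πK, πK, Category.assoc,
    show (Coh.Rpush f p).map (tlv 𝓚 hX F h) = (pK X 𝓚 hX ⋙ Coh.Rpush f p).map ((lvlSys (hatF 𝓚 hX F)).map (homOfLE h).op) from rfl,
    ← (ΦK f 𝓘 𝓚 hpc hX hY p).inv.naturality, ← Category.assoc]
  refine congrArg (· ≫ _) ?_
  refine ((pK Y 𝓘 hY).map_comp _ _).symm.trans ?_
  rw [← Functor.map_comp, prj_lvlSys_map]

variable (F) in
/-- The comparison, from the completion as a system. -/
def θ0 [IsIso (complCmp Y 𝓘 hY ((Coh.Rpush f p).obj F))] :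
    (FSch.complMod 𝓘 ((Coh.Rpush f p).obj F)).realMod hY ⟶ (FSch.RpushF φK hX hY p).obj (hatF 𝓚 hX F) :=
  inv (complCmp Y 𝓘 hY ((Coh.Rpush f p).obj F)) ≫ θC f 𝓘 𝓚 hpc hX hY p F

variable (F) in
/-- The completion of a section, through the transpose. -/
def hX' (W : Y.Opens) : Γ((Coh.Rpush f p).obj F, W) →+
    ((FSch.RpushF φK hX hY p).obj (hatF 𝓚 hX F)).val.obj (op (FExist.upO 𝓘 W)) :=
  ((θ' f 𝓘 𝓚 hpc hX hY p F).app W).hom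

variable (F) in
/-- The projections of sections. -/
def πX (W : Y.Opens) (k : ℕ) : ((FSch.RpushF φK hX hY p).obj (hatF 𝓚 hX F)).val.obj (op (FExist.upO 𝓘 W)) →+
    Γ((Coh.Rpush f p).obj (lvX 𝓚 hX F k), W) :=
  ((πK f 𝓘 𝓚 hpc hX hY p (F := F) k).app W).hom

lemma θ0_hat [IsIso (complCmp Y 𝓘 hY ((Coh.Rpush f p).obj F))] (W : Y.Opens) (t : Γ((Coh.Rpush f p).obj F, W)) :
    ((θ0 f 𝓘 𝓚 hpc hX hY p F).val.app (op (FExist.upO 𝓘 W))).hom (FExist.hat 𝓘 hY ((Coh.Rpush f p).obj F) W t) =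
      hX' f 𝓘 𝓚 hpc hX hY p F W t := by
  have h1 : (complCmp Y 𝓘 hY ((Coh.Rpush f p).obj F)).val.app (op (FExist.upO 𝓘 W))
      ((uK 𝓘 hY ((Coh.Rpush f p).obj F)).app W t) = FExist.hat 𝓘 hY ((Coh.Rpush f p).obj F) W t :=
    (congr(($((ComplTors.kap Y 𝓘 hY).adj.homEquiv_unit _ _ (complCmp Y 𝓘 hY ((Coh.Rpush f p).obj F)))).val.app (op W) t)).symm
  rw [← h1]
  refine (congrArg (fun g : (ComplTors.kap Y 𝓘 hY).pull.obj ((Coh.Rpush f p).obj F) ⟶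
      (FSch.RpushF φK hX hY p).obj (hatF 𝓚 hX F) => (g.val.app (op (FExist.upO 𝓘 W))).hom
        ((uK 𝓘 hY ((Coh.Rpush f p).obj F)).app W t))
    (IsIso.hom_inv_id_assoc (complCmp Y 𝓘 hY ((Coh.Rpush f p).obj F)) (θC f 𝓘 𝓚 hpc hX hY p F))).trans ?_
  exact congr(($(unit_θC f 𝓘 𝓚 hpc hX hY p F)).val.app (op W) t)

lemma πX_hX' (W : Y.Opens) (k : ℕ) (t : Γ((Coh.Rpush f p).obj F, W)) :
    πX f 𝓘 𝓚 hpc hX hY p F W k (hX' f 𝓘 𝓚 hpc hX hY p F W t) = ((Coh.Rpush f p).map (qlv 𝓚 hX F k)).app W t :=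
  congr(($(θ'_πK f 𝓘 𝓚 hpc hX hY p k)).app W t)

lemma πX_tlv (W : Y.Opens) {n k : ℕ} (h : n ≤ k)
    (x : ((FSch.RpushF φK hX hY p).obj (hatF 𝓚 hX F)).val.obj (op (FExist.upO 𝓘 W))) :
    ((Coh.Rpush f p).map (tlv 𝓚 hX F h)).app W (πX f 𝓘 𝓚 hpc hX hY p F W k x) = πX f 𝓘 𝓚 hpc hX hY p F W n x :=
  congr(($(πK_tlv f 𝓘 𝓚 hpc hX hY p (F := F) h)).app W x)

lemma gmap_eq_zero_iff (W : Y.Opens) (k : ℕ)
    (x : ((FSch.RpushF φK hX hY p).obj (hatF 𝓚 hX F)).val.obj (op (FExist.upO 𝓘 W))) :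
    πX f 𝓘 𝓚 hpc hX hY p F W k x = 0 ↔ FRel.gmap hY φK p (prj (hatF 𝓚 hX F) k) (FExist.upO 𝓘 W) x = 0 :=
  map_eq_zero_iff (((ΦK f 𝓘 𝓚 hpc hX hY p).inv.app (lvl (hatF 𝓚 hX F) k)).app W).hom
    (ConcreteCategory.bijective_of_isIso (((ΦK f 𝓘 𝓚 hpc hX hY p).inv.app (lvl (hatF 𝓚 hX F) k)).app W)).1

lemma smul_level_eq_zero (W : Y.Opens) (k : ℕ) (J : Ideal Γ(Y, W))
    (hkill : ∀ b ∈ J, ∀ y : Γ((Coh.Rpush f p).obj (lvX 𝓚 hX F k), W), b • y = 0)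
    (a : OR (FSch.completionAlong Y 𝓘) hY (ComplTors.pre Y 𝓘 W)) (ha : a ∈ J.map (ComplTors.sh Y 𝓘 hY W)) :
    ∀ v : ((FSch.RpushF φK hX hY p).obj (lvl (hatF 𝓚 hX F) k)).val.obj (op (ComplTors.pre Y 𝓘 W)), a • v = 0 := by
  rw [Ideal.map] at ha
  induction ha using Submodule.span_induction with
  | mem a' ha' =>
    intro v
    obtain ⟨b, hb, rfl⟩ := ha'
    let v' : Γ((pK Y 𝓘 hY).obj ((FSch.RpushF φK hX hY p).obj (lvl (hatF 𝓚 hX F) k)), W) := v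
    show b • v' = 0
    refine (ConcreteCategory.bijective_of_isIso
      (((ΦK f 𝓘 𝓚 hpc hX hY p).inv.app (lvl (hatF 𝓚 hX F) k)).app W)).1 ?_
    exact ((Scheme.Modules.Hom.app_smul _ b v').trans (hkill b hb _)).trans (map_zero _).symm
  | zero => exact fun v => zero_smul _ _
  | add a' b' _ _ h1 h2 => exact fun v => by rw [add_smul, h1, h2, add_zero]
  | smul r a' _ h1 => exact fun v => by rw [smul_eq_mul, mul_smul, h1, smul_zero]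

lemma πX_θ0_eq_zero [IsIso (complCmp Y 𝓘 hY ((Coh.Rpush f p).obj F))] (hG : Coh.IsCoh ((Coh.Rpush f p).obj F))
    {W : Y.Opens} (hW : IsAffineOpen W) (k : ℕ)
    (hkill : ∀ b ∈ 𝓘.ideal ⟨W, hW⟩ ^ (k + 1), ∀ y : Γ((Coh.Rpush f p).obj (lvX 𝓚 hX F k), W), b • y = 0)
    (z : OM hY (FSch.complMod 𝓘 ((Coh.Rpush f p).obj F)) (FExist.upO 𝓘 W))
    (hz : pm hY (FSch.complMod 𝓘 ((Coh.Rpush f p).obj F)) (FExist.upO 𝓘 W) k z = 0) :
    πX f 𝓘 𝓚 hpc hX hY p F W k (((θ0 f 𝓘 𝓚 hpc hX hY p F).val.app (op (FExist.upO 𝓘 W))).hom z) = 0 := by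
  have hLY := S3854.result Y 𝓘
  have hcoh : (FSch.complMod 𝓘 ((Coh.Rpush f p).obj F)).IsCoh := fun n =>
    PullbackMod.isCoh_pullback (FSch.completionToX Y 𝓘 n) _ hG
  have h1 := (((mod_main (h := hY) _ hLY hcoh (hW.preimage (FSch.completionToX Y 𝓘 0))).2 k).2 z).1 hz
  refine Submodule.smul_induction_on (p := fun z => πX f 𝓘 𝓚 hpc hX hY p F W k
    (((θ0 f 𝓘 𝓚 hpc hX hY p F).val.app (op (FExist.upO 𝓘 W))).hom z) = 0) h1 (fun a ha y _ => ?_)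
    fun y z hy hz => by rw [map_add, map_add, hy, hz, add_zero]
  rw [map_smul, gmap_eq_zero_iff]
  have ha' : a ∈ (𝓘.ideal ⟨W, hW⟩ ^ (k + 1)).map (ComplTors.sh Y 𝓘 hY W) := by
    rw [Ideal.map_pow, ← ComplTors.II_eq_map ⟨W, hW⟩]
    exact ha
  exact ((((FSch.RpushF φK hX hY p).map (prj (hatF 𝓚 hX F) k)).val.app (op (FExist.upO 𝓘 W))).hom.map_smul a _).trans
    (smul_level_eq_zero f 𝓘 𝓚 hpc hX hY p W k _ hkill a ha' _)

lemma πX_congr_le (W : Y.Opens) {n k : ℕ} (h : n ≤ k)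
    {x y : ((FSch.RpushF φK hX hY p).obj (hatF 𝓚 hX F)).val.obj (op (FExist.upO 𝓘 W))}
    (e : πX f 𝓘 𝓚 hpc hX hY p F W k x = πX f 𝓘 𝓚 hpc hX hY p F W k y) :
    πX f 𝓘 𝓚 hpc hX hY p F W n x = πX f 𝓘 𝓚 hpc hX hY p F W n y :=
  (πX_tlv f 𝓘 𝓚 hpc hX hY p W h x).symm.trans ((congrArg _ e).trans (πX_tlv f 𝓘 𝓚 hpc hX hY p W h y))

include h𝓚 hF in
lemma πX_ext (W : Y.Opens) (x y : ((FSch.RpushF φK hX hY p).obj (hatF 𝓚 hX F)).val.obj (op (FExist.upO 𝓘 W)))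
    (h : ∀ k, πX f 𝓘 𝓚 hpc hX hY p F W k x = πX f 𝓘 𝓚 hpc hX hY p F W k y) : x = y :=
  sub_eq_zero.1 (FRel.eq_zero_of_lvl φK (isProperHom_completionMap f 𝓘 𝓚 h𝓚 hpc) (S3854.result X 𝓚)
    (S3854.result Y 𝓘) (isCohF_hatF 𝓚 hX hF) p (x - y) fun k =>
      (gmap_eq_zero_iff f 𝓘 𝓚 hpc hX hY p W k _).1 ((map_sub _ x y).trans (sub_eq_zero.2 (h k))))

include h𝓚 hF in
lemma bijective_θ0 [IsIso (complCmp Y 𝓘 hY ((Coh.Rpush f p).obj F))] {W : Y.Opens} (hW : IsAffineOpen W)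
    (hG : Coh.IsCoh ((Coh.Rpush f p).obj F)) :
    Function.Bijective ((θ0 f 𝓘 𝓚 hpc hX hY p F).val.app (op (FExist.upO 𝓘 W))).hom := by
  obtain ⟨c, hsmall, hrange, hkill⟩ := exists_bounds f 𝓘 𝓚 h𝓚 hX hF p hW
  have hYs : ∀ k x, ∃ t, pm hY (FSch.complMod 𝓘 ((Coh.Rpush f p).obj F)) (FExist.upO 𝓘 W) k
      (FExist.hat 𝓘 hY ((Coh.Rpush f p).obj F) W t) = x :=
    fun k x => (FExist.pm_hat_surj_ker 𝓘 hY _ hG.1 hW k).1 x
  have hsm : ∀ n t, πX f 𝓘 𝓚 hpc hX hY p F W (n + c) (hX' f 𝓘 𝓚 hpc hX hY p F W t) = 0 →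
      pm hY (FSch.complMod 𝓘 ((Coh.Rpush f p).obj F)) (FExist.upO 𝓘 W) n
        (FExist.hat 𝓘 hY ((Coh.Rpush f p).obj F) W t) = 0 := fun n t ht =>
    ((FExist.pm_hat_surj_ker 𝓘 hY _ hG.1 hW n).2 t).2
      (hsmall n t ((πX_hX' f 𝓘 𝓚 hpc hX hY p W _ t).symm.trans ht))
  have hex : ∀ y n, ∃ s, πX f 𝓘 𝓚 hpc hX hY p F W n (hX' f 𝓘 𝓚 hpc hX hY p F W s) =
      πX f 𝓘 𝓚 hpc hX hY p F W n y := fun y n => by
    obtain ⟨t, ht⟩ := hrange n (πX f 𝓘 𝓚 hpc hX hY p F W (n + c) y)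
    exact ⟨t, (πX_hX' f 𝓘 𝓚 hpc hX hY p W n t).trans
      (ht.trans (πX_tlv f 𝓘 𝓚 hpc hX hY p W (Nat.le_add_right n c) y))⟩
  exact bij_of_sys hY (FSch.complMod 𝓘 ((Coh.Rpush f p).obj F)) (FExist.upO 𝓘 W) (πX f 𝓘 𝓚 hpc hX hY p F W)
    (FExist.hat 𝓘 hY ((Coh.Rpush f p).obj F) W) (hX' f 𝓘 𝓚 hpc hX hY p F W)
    ((θ0 f 𝓘 𝓚 hpc hX hY p F).val.app (op (FExist.upO 𝓘 W))).hom.toAddMonoidHom c
    hYs (θ0_hat f 𝓘 𝓚 hpc hX hY p W)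
    (fun k z hz => πX_θ0_eq_zero f 𝓘 𝓚 hpc hX hY p hG hW k (hkill k) z hz) hsm hex
    (fun h => FExist.pm_congr_le 𝓘 hY _ h) (fun h => πX_congr_le f 𝓘 𝓚 hpc hX hY p W h)
    (πX_ext f 𝓘 𝓚 h𝓚 hpc hX hY p hF W)

include h𝓚 hF in
/-- The comparison is bijective on sections over preimages of affine opens. -/
theorem bijective_θC {W : Y.Opens} (hW : IsAffineOpen W) (hG : Coh.IsCoh ((Coh.Rpush f p).obj F)) :
    Function.Bijective ((θC f 𝓘 𝓚 hpc hX hY p F).val.app (op (FExist.upO 𝓘 W))).hom := by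
  haveI := complCmp_isIso Y 𝓘 hY _ hG
  have hb := bijective_θ0 f 𝓘 𝓚 h𝓚 hpc hX hY p hF hW hG
  have hc : Function.Bijective ((complCmp Y 𝓘 hY ((Coh.Rpush f p).obj F)).val.app (op (FExist.upO 𝓘 W))).hom :=
    ⟨FPLocal.app_injective_of_mono _ _, fun y =>
      ⟨((inv (complCmp Y 𝓘 hY ((Coh.Rpush f p).obj F))).val.app (op (FExist.upO 𝓘 W))).hom y,
        congrArg (fun g : (FSch.complMod 𝓘 ((Coh.Rpush f p).obj F)).realMod hY ⟶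
          (FSch.complMod 𝓘 ((Coh.Rpush f p).obj F)).realMod hY => (g.val.app (op (FExist.upO 𝓘 W))).hom y)
          (IsIso.inv_hom_id (complCmp Y 𝓘 hY ((Coh.Rpush f p).obj F)))⟩⟩
  have e : complCmp Y 𝓘 hY _ ≫ θ0 f 𝓘 𝓚 hpc hX hY p F = θC f 𝓘 𝓚 hpc hX hY p F :=
    IsIso.hom_inv_id_assoc _ _
  rw [← e]
  exact hb.comp hc

include h𝓚 hF in
/-- The completion of a higher direct image is the higher direct image of the completion. -/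
theorem isIso_θC : IsIso (θC f 𝓘 𝓚 hpc hX hY p F) := by
  haveI := hF.1
  have hG : Coh.IsCoh ((Coh.Rpush f p).obj F) := RpushLib.isCoh_rpush f hF p
  refine FExist.isIso_of_basis _ (fun Z => ∃ U : Y.Opens, IsAffineOpen U ∧ Z = FExist.upO 𝓘 U)
    (fun W x hx => ?_) fun Z hZ => ?_
  · obtain ⟨O, hO, hOW⟩ := (FSch.completionToX Y 𝓘 0).isClosedEmbedding.isInducing.isOpen_iff.1 W.2
    have hxO : FSch.completionToX Y 𝓘 0 x ∈ O := (Set.ext_iff.1 hOW x).2 hx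
    obtain ⟨_, ⟨U, hU, rfl⟩, hxU, hUO⟩ := Y.isBasis_affineOpens.exists_subset_of_mem_open hxO hO
    exact ⟨FExist.upO 𝓘 U, ⟨U, hU, rfl⟩, hxU, fun z hz => (Set.ext_iff.1 hOW z).1 (hUO hz)⟩
  · obtain ⟨U, hU, rfl⟩ := hZ
    exact bijective_θC f 𝓘 𝓚 h𝓚 hpc hX hY p hF hU hG

end Groth.Agent.FFCompl
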