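import Groth.Agent.RpushLib.Sections
import Groth.Agent.BCLib.RpushSec
import Groth.Agent.FRelLib.Res

/-!
# Sections of higher direct images over affine opens, naturally in the module
-/

set_option autoImplicit false
set_option linter.style.haveILetI false
set_option linter.unusedSectionVars false
set_option backward.isDefEq.respectTransparency false
set_option backward.isDefEq.respectTransparency.types false
set_option maxHeartbeats 1000000

universe u

open CategoryTheory CategoryTheory.Limits Opposite TopologicalSpace AlgebraicGeometry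
open Groth.Agent.CohBase Groth.Agent.RpushLib Groth.Agent.BCLib Groth.Agent.FRel

noncomputable section

namespace Groth.Agent.FFCompl

lemma δH_natural {Y : Scheme.{u}} {T T' : ShortComplex Y.Modules} (hT : T.ShortExact) (hT' : T'.ShortExact)
    (φ : T ⟶ T') (n : ℕ) (x : Coh.HH Y T.X₃ n) :
    hhMapΓ φ.τ₁ (n + 1) (δH hT n x) = δH hT' n (hhMapΓ φ.τ₃ n x) := by
  refine (HHEquiv T'.X₁ (n + 1)).injective ?_
  show HEquiv (Coh.toAb T'.X₁) (n + 1) (Sheaf.H.map ((QCohLib.toAbF Y).map φ.τ₁) (n + 1)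
      ((HHEquiv T.X₁ (n + 1)).symm _)) = HHEquiv T'.X₁ (n + 1) ((HHEquiv T'.X₁ (n + 1)).symm _)
  rw [HEquiv_map, AddEquiv.apply_symm_apply]
  refine Eq.trans ?_ (congrArg (hδ (QCohLib.toAb_shortExact hT') ⊤ n) (HEquiv_map ((QCohLib.toAbF Y).map φ.τ₃) n x).symm)
  refine Eq.trans ?_ (hδ_naturality (QCohLib.toAb_shortExact hT) (QCohLib.toAb_shortExact hT')
    ((QCohLib.toAbF Y).mapShortComplex.map φ) ⊤ n _)
  exact congrArg _ ((HHEquiv T.X₁ (n + 1)).apply_symm_apply _)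

lemma h0Γ_natural {Y : Scheme.{u}} {N N' : Y.Modules} (g : N ⟶ N') (x : Γ(N, ⊤)) :
    hhMapΓ g 0 (h0Γ N x) = h0Γ N' (g.app ⊤ x) := by
  refine (HHEquiv N' 0).injective ?_
  refine (HEquiv_map ((QCohLib.toAbF Y).map g) 0 _).trans ?_
  refine Eq.trans ?_ ((HHEquiv N' 0).apply_symm_apply _).symm
  refine (congrArg (hmap ⊤ ((QCohLib.toAbF Y).map g) 0) ((HHEquiv N 0).apply_symm_apply _)).trans ?_
  exact hmap_H0Equiv_symm ⊤ ((QCohLib.toAbF Y).map g) x

lemma hhMapΓ_comp {Y : Scheme.{u}} {M N P : Y.Modules} (g : M ⟶ N) (g' : N ⟶ P) (n : ℕ) (x : Coh.HH Y M n) :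
    hhMapΓ (g ≫ g') n x = hhMapΓ g' n (hhMapΓ g n x) :=
  (Formal.HHmap_comp g g' n x).symm

lemma δH_surjective {Y : Scheme.{u}} {T : ShortComplex Y.Modules} (hT : T.ShortExact) (n : ℕ)
    (h : Subsingleton (HU (⊤ : Y.Opens) (Coh.toAb T.X₂) (n + 1))) : Function.Surjective (δH hT n) := fun x => by
  haveI : Subsingleton (HU (⊤ : Y.Opens) (T.map (QCohLib.toAbF Y)).X₂ (n + 1)) := h
  obtain ⟨y, hy⟩ := hδ_surjective (QCohLib.toAb_shortExact hT) ⊤ n (HHEquiv T.X₁ (n + 1) x)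
  obtain ⟨z, rfl⟩ := (HHEquiv T.X₃ n).surjective y
  exact ⟨z, (congrArg (HHEquiv T.X₁ (n + 1)).symm hy).trans ((HHEquiv T.X₁ (n + 1)).symm_apply_apply x)⟩

section Gen

variable {Y : Scheme.{u}} {K J : ℕ → Y.Modules} (a : ∀ p, K p ⟶ J p) (b : ∀ p, J p ⟶ K (p + 1))
  (w : ∀ p, a p ≫ b p = 0) (hT : ∀ p, (ShortComplex.mk (a p) (b p) (w p)).ShortExact)

/-- Iterated connecting maps of a family of sequences. -/
def shiftG : ∀ (p i m : ℕ), i + p = m → (Coh.HH Y (K p) i →ₗ[Coh.Γtop Y] Coh.HH Y (K 0) m)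
  | 0, _, _, e => by subst e; exact LinearMap.id
  | p + 1, i, m, e => (shiftG p (i + 1) m (by omega)).comp (δH (hT p) i)

variable (hJ : ∀ p n, Subsingleton (HU (⊤ : Y.Opens) (Coh.toAb (J p)) (n + 1)))

include hJ in
lemma shiftG_surjective (p : ℕ) : ∀ (i m : ℕ) (e : i + p = m), Function.Surjective (shiftG a b w hT p i m e) := by
  induction p with
  | zero => intro i m e; subst e; exact Function.surjective_id
  | succ p ih =>
    intro i m e
    rw [shiftG]
    exact (ih (i + 1) m (by omega)).comp (δH_surjective (hT p) i (hJ p i))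

include hJ in
lemma shiftG_injective (p : ℕ) :
    ∀ (i m : ℕ) (e : i + 1 + p = m), Function.Injective (shiftG a b w hT p (i + 1) m e) := by
  induction p with
  | zero => intro i m e; subst e; exact Function.injective_id
  | succ p ih =>
    intro i m e
    rw [shiftG]
    exact (ih (i + 1) m (by omega)).comp (δH_bijective (hT p) (i + 1) (hJ p i) (hJ p (i + 1))).1

lemma shiftG_natural {K' J' : ℕ → Y.Modules} (a' : ∀ p, K' p ⟶ J' p) (b' : ∀ p, J' p ⟶ K' (p + 1))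
    (w' : ∀ p, a' p ≫ b' p = 0) (hT' : ∀ p, (ShortComplex.mk (a' p) (b' p) (w' p)).ShortExact)
    (φ : ∀ p, K p ⟶ K' p) (ψ : ∀ p, J p ⟶ J' p) (h1 : ∀ p, φ p ≫ a' p = a p ≫ ψ p)
    (h2 : ∀ p, ψ p ≫ b' p = b p ≫ φ (p + 1)) (p : ℕ) :
    ∀ (i m : ℕ) (e : i + p = m) (x : Coh.HH Y (K p) i),
      shiftG a' b' w' hT' p i m e (hhMapΓ (φ p) i x) = hhMapΓ (φ 0) m (shiftG a b w hT p i m e x) := by
  induction p with
  | zero => intro i m e x; subst e; rfl
  | succ p ih =>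
    intro i m e x
    rw [shiftG, shiftG]
    refine Eq.trans ?_ (ih (i + 1) m (by omega) (δH (hT p) i x))
    exact congrArg (shiftG a' b' w' hT' p (i + 1) m (by omega))
      (δH_natural (hT p) (hT' p) ⟨φ p, ψ p, φ (p + 1), h1 p, h2 p⟩ i x).symm

/-- Sections give classes, for a family of sequences. -/
def θG (p : ℕ) : Γ(K p, ⊤) →+ Coh.HH Y (K 0) p :=
  (shiftG a b w hT p 0 p (Nat.zero_add p)).toAddMonoidHom.comp (h0Γ (K p)).toAddMonoidHom

include hJ in
lemma θG_surjective (p : ℕ) : Function.Surjective (θG a b w hT p) :=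
  (shiftG_surjective a b w hT hJ p 0 p _).comp (h0Γ (K p)).surjective

lemma θG_zero_injective : Function.Injective (θG a b w hT 0) := (h0Γ (K 0)).injective

include hJ in
lemma θG_succ_iff (p : ℕ) (s : Γ(K (p + 1), ⊤)) :
    θG a b w hT (p + 1) s = 0 ↔ ∃ j, (b p).app ⊤ j = s := by
  refine Iff.trans ?_ ((δΓ_spec (hT p) (hJ p 0)).2 s)
  show shiftG a b w hT (p + 1) 0 (p + 1) (Nat.zero_add (p + 1)) (h0Γ (K (p + 1)) s) = 0 ↔ δΓ (hT p) s = 0
  rw [shiftG]
  exact map_eq_zero_iff _ (shiftG_injective a b w hT hJ p 0 (p + 1) (by omega))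

lemma θG_smul (p : ℕ) (r : Γ(Y, ⊤)) (s : Γ(K p, ⊤)) :
    θG a b w hT p (r • s) = (show Coh.Γtop Y from r) • θG a b w hT p s :=
  (congrArg (shiftG a b w hT p 0 p (Nat.zero_add p)) (h0Γ_smul (K p) r s)).trans (map_smul _ _ _)

lemma θG_natural {K' J' : ℕ → Y.Modules} (a' : ∀ p, K' p ⟶ J' p) (b' : ∀ p, J' p ⟶ K' (p + 1))
    (w' : ∀ p, a' p ≫ b' p = 0) (hT' : ∀ p, (ShortComplex.mk (a' p) (b' p) (w' p)).ShortExact)
    (φ : ∀ p, K p ⟶ K' p) (ψ : ∀ p, J p ⟶ J' p) (h1 : ∀ p, φ p ≫ a' p = a p ≫ ψ p)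
    (h2 : ∀ p, ψ p ≫ b' p = b p ≫ φ (p + 1)) (p : ℕ) (s : Γ(K p, ⊤)) :
    θG a' b' w' hT' p ((φ p).app ⊤ s) = hhMapΓ (φ 0) p (θG a b w hT p s) :=
  (congrArg (shiftG a' b' w' hT' p 0 p (Nat.zero_add p)) (h0Γ_natural (φ p) s).symm).trans
    (shiftG_natural a b w hT a' b' w' hT' φ ψ h1 h2 p 0 p (Nat.zero_add p) _)

end Gen

variable {X S : Scheme.{u}} (f : X ⟶ S) {M : X.Modules} (R : InjectiveResolution M) (U : X.Opens)

/-- The cocycles on an open subscheme. -/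
abbrev KU (p : ℕ) : U.toScheme.Modules := (Kz R p).restrict U.ι

/-- The inclusion of the cocycles on an open subscheme. -/
abbrev aU (p : ℕ) : KU R U p ⟶ (R.cocomplex.X p).restrict U.ι := (Scheme.Modules.restrictFunctor U.ι).map (FRel.zι R p)

/-- The differential onto the cocycles on an open subscheme. -/
abbrev bU (p : ℕ) : (R.cocomplex.X p).restrict U.ι ⟶ KU R U (p + 1) :=
  (Scheme.Modules.restrictFunctor U.ι).map (zq R p)

lemma wU (p : ℕ) : aU R U p ≫ bU R U p = 0 := by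
  rw [← Functor.map_comp, FRel.zι_zq, Functor.map_zero]

lemma hTU (p : ℕ) : (ShortComplex.mk (aU R U p) (bU R U p) (wU R U p)).ShortExact :=
  ((zSeq_shortExact R p).map_of_exact (Scheme.Modules.restrictFunctor U.ι) :)

lemma hJU (p n : ℕ) : Subsingleton (HU (⊤ : U.toScheme.Opens) (Coh.toAb ((R.cocomplex.X p).restrict U.ι)) (n + 1)) :=
  subsingleton_seqU R U p n

/-- Sections of cocycles as sections on the open subscheme. -/
def tTop (p : ℕ) : Γ(Kz R p, U) →+ Γ(KU R U p, ⊤) := rM (Kz R p) (Scheme.Opens.ι_image_top U).le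

lemma tTop_bijective (p : ℕ) : Function.Bijective (tTop R U p) := bijective_rM_restrict U (Kz R p)

/-- The classes of a module from those of its cocycles in degree zero. -/
def hhInv (p : ℕ) : Coh.HH U.toScheme (KU R U 0) p →ₗ[Coh.Γtop U.toScheme] Coh.HH U.toScheme (M.restrict U.ι) p :=
  hhMapΓ ((Scheme.Modules.restrictFunctor U.ι).map (inv (toK0 R))) p

lemma hhInv_bijective (p : ℕ) : Function.Bijective (hhInv R U p) :=
  (hhEquivΓ ((Scheme.Modules.restrictFunctor U.ι).mapIso (asIso (toK0 R)).symm) p).bijective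

/-- Cocycle sections give classes. -/
def θS (p : ℕ) : Γ(Kz R p, U) →+ Coh.HH U.toScheme (M.restrict U.ι) p :=
  (hhInv R U p).toAddMonoidHom.comp ((θG (aU R U) (bU R U) (wU R U) (hTU R U) p).comp (tTop R U p))

lemma θS_surjective (p : ℕ) : Function.Surjective (θS R U p) :=
  (hhInv_bijective R U p).2.comp ((θG_surjective (aU R U) (bU R U) (wU R U) (hTU R U) (hJU R U) p).comp (tTop_bijective R U p).2)

lemma θS_zero_injective : Function.Injective (θS R U 0) :=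
  (hhInv_bijective R U 0).1.comp ((θG_zero_injective (aU R U) (bU R U) (wU R U) (hTU R U)).comp (tTop_bijective R U 0).1)

lemma θS_succ_iff (p : ℕ) (s : Γ(Kz R (p + 1), U)) :
    θS R U (p + 1) s = 0 ↔ ∃ j, (zq R p).app U j = s := by
  have hU : U.ι ''ᵁ ⊤ = U := Scheme.Opens.ι_image_top U
  refine (map_eq_zero_iff _ (hhInv_bijective R U (p + 1)).1).trans
    ((θG_succ_iff (aU R U) (bU R U) (wU R U) (hTU R U) (hJU R U) p (tTop R U (p + 1) s)).trans ⟨?_, ?_⟩)
  · rintro ⟨j, hj⟩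
    refine ⟨rM (R.cocomplex.X p) hU.ge j, (tTop_bijective R U (p + 1)).1 ?_⟩
    refine Eq.trans ?_ hj
    show rM _ hU.le ((zq R p).app U _) = _
    rw [← app_rM, show rM (R.cocomplex.X p) hU.le (rM (R.cocomplex.X p) hU.ge j) = j from
      (rM_rM _ _ _ _).trans (restr_self _ _ _)]
    rfl
  · rintro ⟨j, rfl⟩
    exact ⟨rM (R.cocomplex.X p) hU.le j, app_rM (zq R p) hU.le j⟩

lemma θS_natural {M' : X.Modules} {R' : InjectiveResolution M'} (φ : R.cocomplex ⟶ R'.cocomplex) {g : M ⟶ M'}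
    (hg : R.ι.f 0 ≫ φ.f 0 = g ≫ R'.ι.f 0) (p : ℕ) (s : Γ(Kz R p, U)) :
    θS R' U p ((zmap φ p).app U s) = hhMapΓ ((Scheme.Modules.restrictFunctor U.ι).map g) p (θS R U p s) := by
  let G := Scheme.Modules.restrictFunctor U.ι
  have h0 : tTop R' U p ((zmap φ p).app U s) = (G.map (zmap φ p)).app ⊤ (tTop R U p s) :=
    (app_rM (zmap φ p) (Scheme.Opens.ι_image_top U).le s).symm
  have h1 := θG_natural (aU R U) (bU R U) (wU R U) (hTU R U) (aU R' U) (bU R' U) (wU R' U) (hTU R' U)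
    (fun p => G.map (zmap φ p)) (fun p => G.map (φ.f p))
    (fun p => by rw [← G.map_comp, FRel.zmap_zι, G.map_comp]) (fun p => by rw [← G.map_comp, ← zq_zmap, G.map_comp])
    p (tTop R U p s)
  have h2 : G.map (zmap φ 0) ≫ G.map (inv (toK0 R')) = G.map (inv (toK0 R)) ≫ G.map g := by
    rw [← G.map_comp, ← G.map_comp]
    refine congrArg G.map ?_
    rw [IsIso.comp_inv_eq, Category.assoc, ← toK0_zmap φ hg, IsIso.inv_hom_id_assoc]
  refine (congrArg (hhInv R' U p) ((congrArg _ h0).trans h1)).trans ?_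
  refine ((hhMapΓ_comp _ _ p _).symm.trans ?_)
  rw [h2]
  exact hhMapΓ_comp _ _ p _

lemma θS_smul (W : S.Opens) (p : ℕ) (a : Γ(S, W)) (s : Γ((Scheme.Modules.pushforward f).obj (Kz R p), W)) :
    θS R (f ⁻¹ᵁ W) p (show Γ(Kz R p, f ⁻¹ᵁ W) from a • s) =
      preTop f W a • θS R (f ⁻¹ᵁ W) p (show Γ(Kz R p, f ⁻¹ᵁ W) from s) := by
  refine (congrArg (fun z => hhInv R (f ⁻¹ᵁ W) p (θG _ _ (wU R (f ⁻¹ᵁ W)) (hTU R (f ⁻¹ᵁ W)) p z))
    (rM_smul_restrict _ (f ⁻¹ᵁ W) (Scheme.Opens.ι_image_top _).le (f.app W a) _)).trans ?_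
  refine (congrArg (hhInv R (f ⁻¹ᵁ W) p) (θG_smul _ _ _ _ p _ _)).trans ?_
  exact map_smul (hhInv R (f ⁻¹ᵁ W) p) _ _

variable [HasInjectiveResolutions X.Modules]

/-- Cocycle sections give sections of higher direct images. -/
def ρS (W : S.Opens) (p : ℕ) : Γ(Kz R p, f ⁻¹ᵁ W) →+ Γ((Coh.Rpush f p).obj M, W) :=
  ((πR R (Scheme.Modules.pushforward f) p).app W).hom

lemma ρS_natural {M' : X.Modules} {R' : InjectiveResolution M'} (φ : R.cocomplex ⟶ R'.cocomplex) {g : M ⟶ M'}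
    (hg : R.ι.f 0 ≫ φ.f 0 = g ≫ R'.ι.f 0) (W : S.Opens) (p : ℕ) (s : Γ(Kz R p, f ⁻¹ᵁ W)) :
    ρS f R' W p ((zmap φ p).app (f ⁻¹ᵁ W) s) = ((Coh.Rpush f p).map g).app W (ρS f R W p s) :=
  congr(($(πR_natural φ (Scheme.Modules.pushforward f) hg p)).app W s)

lemma ρS_smul (W : S.Opens) (p : ℕ) (a : Γ(S, W)) (s : Γ((Scheme.Modules.pushforward f).obj (Kz R p), W)) :
    ρS f R W p (show Γ(Kz R p, f ⁻¹ᵁ W) from a • s) = a • ρS f R W p (show Γ(Kz R p, f ⁻¹ᵁ W) from s) :=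
  Scheme.Modules.Hom.app_smul (πR R (Scheme.Modules.pushforward f) p) a s

lemma θS_ker_eq_ρS_ker [QuasiCompact f] [QuasiSeparated f] [Coh.IsQCoh M] {W : S.Opens} (hW : IsAffineOpen W)
    (p : ℕ) : Function.Surjective (ρS f R W p) ∧
      ∀ s, ρS f R W p s = 0 ↔ θS R (f ⁻¹ᵁ W) p s = 0 := by
  cases p with
  | zero =>
    have hb : Function.Bijective (ρS f R W 0) :=
      ConcreteCategory.bijective_of_isIso ((πR R (Scheme.Modules.pushforward f) 0).app W)
    exact ⟨hb.2, fun s => (map_eq_zero_iff _ hb.1).trans (map_eq_zero_iff _ (θS_zero_injective R (f ⁻¹ᵁ W))).symm⟩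
  | succ p =>
    haveI : Epi (rSeq R (Scheme.Modules.pushforward f) p).g := epi_πR R (Scheme.Modules.pushforward f) (p + 1)
    have hc := (rSeq_exact R (Scheme.Modules.pushforward f) p).gIsCokernel
    let e : cokernel (pushπ f R p) ≅ (Coh.Rpush f (p + 1)).obj M :=
      IsColimit.coconePointUniqueUpToIso (cokernelIsCokernel (pushπ f R p)) hc
    have he : cokernel.π (pushπ f R p) ≫ e.hom = πR R (Scheme.Modules.pushforward f) (p + 1) :=
      IsColimit.comp_coconePointUniqueUpToIso_hom (cokernelIsCokernel (pushπ f R p)) hc WalkingParallelPair.one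
    have hb : Function.Bijective (e.hom.app W) := ConcreteCategory.bijective_of_isIso _
    have hρ : ∀ s, ρS f R W (p + 1) s = e.hom.app W ((cokernel.π (pushπ f R p)).app W s) := fun s =>
      (congr(($he).app W s)).symm
    have hl := locImage f R p
    refine ⟨fun y => ?_, fun s => ?_⟩
    · obtain ⟨t, rfl⟩ := hb.2 y
      obtain ⟨s, rfl⟩ := hl.coker_surjective hW t
      exact ⟨s, hρ s⟩
    · rw [hρ, map_eq_zero_iff _ hb.1, θS_succ_iff]
      exact ⟨fun h => hl.coker_exact hW s h, fun ⟨j, hj⟩ => (congrArg _ hj).symm.trans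
        (coker_app_app (φ := pushπ f R p) W j)⟩

variable [QuasiCompact f] [QuasiSeparated f]

/-- Sections of higher direct images over an affine open as cohomology of the preimage. -/
def ΦW {W : S.Opens} (hW : IsAffineOpen W) (M : X.Modules) [Coh.IsQCoh M] (p : ℕ) :
    Γ((Coh.Rpush f p).obj M, W) →+ Coh.HH (f ⁻¹ᵁ W).toScheme (M.restrict (f ⁻¹ᵁ W).ι) p :=
  AddMonoidHom.liftOfSurjective (ρS f (injectiveResolution M) W p) (θS_ker_eq_ρS_ker f _ hW p).1
    ⟨θS (injectiveResolution M) (f ⁻¹ᵁ W) p, fun s hs => AddMonoidHom.mem_ker.2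
      (((θS_ker_eq_ρS_ker f _ hW p).2 s).1 (AddMonoidHom.mem_ker.1 hs))⟩

lemma ΦW_ρS {W : S.Opens} (hW : IsAffineOpen W) (M : X.Modules) [Coh.IsQCoh M] (p : ℕ)
    (s : Γ(Kz (injectiveResolution M) p, f ⁻¹ᵁ W)) :
    ΦW f hW M p (ρS f (injectiveResolution M) W p s) = θS (injectiveResolution M) (f ⁻¹ᵁ W) p s :=
  AddMonoidHom.liftOfRightInverse_comp_apply _ _ _ _ s

theorem ΦW_bijective {W : S.Opens} (hW : IsAffineOpen W) (M : X.Modules) [Coh.IsQCoh M] (p : ℕ) :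
    Function.Bijective (ΦW f hW M p) := by
  obtain ⟨hs, hk⟩ := θS_ker_eq_ρS_ker f (injectiveResolution M) hW p
  refine ⟨(injective_iff_map_eq_zero _).2 fun y hy => ?_, fun x => ?_⟩
  · obtain ⟨s, rfl⟩ := hs y
    exact (hk s).2 ((ΦW_ρS f hW M p s).symm.trans hy)
  · obtain ⟨s, rfl⟩ := θS_surjective (injectiveResolution M) (f ⁻¹ᵁ W) p x
    exact ⟨_, ΦW_ρS f hW M p s⟩

theorem ΦW_smul {W : S.Opens} (hW : IsAffineOpen W) (M : X.Modules) [Coh.IsQCoh M] (p : ℕ) (a : Γ(S, W))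
    (y : Γ((Coh.Rpush f p).obj M, W)) : ΦW f hW M p (a • y) = preTop f W a • ΦW f hW M p y := by
  obtain ⟨s, rfl⟩ := (θS_ker_eq_ρS_ker f (injectiveResolution M) hW p).1 y
  rw [ΦW_ρS]
  refine (congrArg (ΦW f hW M p) (ρS_smul f (injectiveResolution M) W p a s).symm).trans ?_
  exact (ΦW_ρS f hW M p _).trans (θS_smul f (injectiveResolution M) W p a s)

theorem ΦW_natural {W : S.Opens} (hW : IsAffineOpen W) {M M' : X.Modules} [Coh.IsQCoh M] [Coh.IsQCoh M']
    (g : M ⟶ M') (p : ℕ) (y : Γ((Coh.Rpush f p).obj M, W)) :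
    ΦW f hW M' p (((Coh.Rpush f p).map g).app W y) =
      hhMapΓ ((Scheme.Modules.restrictFunctor (f ⁻¹ᵁ W).ι).map g) p (ΦW f hW M p y) := by
  obtain ⟨s, rfl⟩ := (θS_ker_eq_ρS_ker f (injectiveResolution M) hW p).1 y
  let φ := InjectiveResolution.desc g (injectiveResolution M') (injectiveResolution M)
  have hg : (injectiveResolution M).ι.f 0 ≫ φ.f 0 = g ≫ (injectiveResolution M').ι.f 0 :=
    InjectiveResolution.desc_commutes_zero g _ _
  rw [ΦW_ρS, ← ρS_natural f (injectiveResolution M) φ hg W p s, ΦW_ρS]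
  exact θS_natural (injectiveResolution M) (f ⁻¹ᵁ W) φ hg p s

end Groth.Agent.FFCompl
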